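import Cfsg.Agent.Lib.Spor.HeInvol.GammaData
import Cfsg.Agent.Lib.Spor.HeInvol.PermData

/-!
The map from pairs of points to vectors is equivariant.
-/

namespace CfsgLib.Spor.HeInvol

open CfsgLib.PresCert

/-- first point of a pair -/
noncomputable def pX (k : Nat) : Nat := Nat.land (pairTab.word k) (nat_lit 65535)

/-- second point of a pair -/
noncomputable def pY (k : Nat) : Nat :=
  Nat.land (Nat.shiftRight (pairTab.word k) (nat_lit 16)) (nat_lit 65535)

/-- vector of a pair -/
noncomputable def pV (k : Nat) : Nat := Nat.shiftRight (pairTab.word k) (nat_lit 32)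

/-- the checks at one pair -/
noncomputable def okPair (k : Nat) : Bool :=
  Nat.blt (pX k) data.n && Nat.blt (pY k) data.n && Nat.blt (pV k) 32 &&
    (Nat.beq (posTab.half (pX k)) (Nat.shiftRight k (nat_lit 4)) &&
      (allBelow (nat_lit 16) fun j =>
        let l := Nat.add (Nat.shiftLeft (Nat.shiftRight k (nat_lit 4)) (nat_lit 4)) j
        !(Nat.beq (pY l) (pY k)) || Nat.beq (pV l) (pV k))) &&
      allBelow (nat_lit 4) fun i =>
        let w := (genWords.getD i []).reverse
        let l := nextTab.half (Nat.add (Nat.mul i (nat_lit 5376)) k)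
        Nat.blt l (nat_lit 5376) && Nat.beq (data.app w (pX k)) (pX l) &&
          Nat.beq (data.app w (pY k)) (pY l) &&
          Nat.beq ((vecTab.getD i []).getD (pV k) 32) (pV l)

theorem pairs_ok : allBelow 5376 okPair = true := by decide +kernel

theorem pair_spec {k : Nat} (hk : k < 5376) :
    pX k < data.n ∧ pY k < data.n ∧ pV k < 32 ∧
      ∀ i < 4, ∃ l < 5376, data.app (genWords.getD i []).reverse (pX k) = pX l ∧
        data.app (genWords.getD i []).reverse (pY k) = pY l ∧
        (vecTab.getD i []).getD (pV k) 32 = pV l := by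
  have h := allBelow_spec pairs_ok k hk
  simp only [okPair, Bool.and_eq_true, Nat.blt_eq] at h
  obtain ⟨⟨⟨⟨h1, h2⟩, h3⟩, -⟩, h5⟩ := h
  refine ⟨h1, h2, h3, fun i hi => ?_⟩
  have := allBelow_spec h5 i hi
  simp only [Bool.and_eq_true, Nat.blt_eq, Nat.beq_eq] at this
  obtain ⟨⟨⟨e1, e2⟩, e3⟩, e4⟩ := this
  exact ⟨_, e1, e2, e3, e4⟩

theorem pair_inj {k l : Nat} (hk : k < 5376) (hl : l < 5376) (hx : pX k = pX l) (hy : pY k = pY l) :
    pV k = pV l := by
  have h := allBelow_spec pairs_ok k hk
  have h' := allBelow_spec pairs_ok l hl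
  simp only [okPair, Bool.and_eq_true, Nat.beq_eq] at h h'
  obtain ⟨⟨-, hp, hin⟩, -⟩ := h
  obtain ⟨⟨-, hp', -⟩, -⟩ := h'
  rw [hx, hp'] at hp
  have := allBelow_spec hin (l % 16) (Nat.mod_lt _ (by norm_num))
  have e : Nat.add (Nat.shiftLeft (Nat.shiftRight k 4) 4) (l % 16) = l := by
    rw [← hp]
    simp only [Nat.shiftLeft_eq', Nat.shiftRight_eq', Nat.shiftRight_eq_div_pow, Nat.shiftLeft_eq,
      Nat.add_eq]
    omega
  simp only [Bool.or_eq_true, Bool.not_eq_true', ← Bool.not_eq_true, Nat.beq_eq, e, hy,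
    not_true, false_or] at this
  exact this.symm

end CfsgLib.Spor.HeInvol
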