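import Cfsg.Agent.Lib.PresCert.Presented
import Cfsg.Prelude.Def_Spor_He

/-!
Relator words of the presented Held group.
-/

namespace CfsgLib.Spor.HeInvol

open CfsgLib.PresCert Cfsg.Spor

/-- the further relators as words -/
def extraW : List (List He.Gen) :=
  [[.e, .g, .f, .g, .f],
   [.e, .c, .b, .a, .c, .b, .a, .c, .b, .a],
   [.a, .d, .c, .d, .c, .d, .c, .d, .c, .d, .c],
   [.c, .d, .f, .g, .c, .d, .f, .g, .c, .d, .f, .g, .c, .d, .f, .g]]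

/-- numbering of the generators -/
def idx : He.Gen → ℕ
  | .a => 0 | .b => 1 | .c => 2 | .d => 3 | .e => 4 | .f => 5 | .g => 6

/-- the letters by number -/
def letter : ℕ → He.Gen
  | 0 => .a | 1 => .b | 2 => .c | 3 => .d | 4 => .e | 5 => .f | _ => .g

theorem idx_letter : ∀ k < 7, idx (letter k) = k := by decide

theorem mem_nodes : ∀ x : He.Gen, x ∈ coxNodes He.edges := by
  intro x; cases x <;> decide

theorem wordsFor : WordsFor He.extra extraW := by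
  intro Q _ f hf
  have hi : ∀ x, (f x)⁻¹ = f x := fun x => inv_eq_of_mul_eq_one_left (hf x)
  simp [He.extra, extraW, He.a, He.b, He.c, He.d, He.e, He.f, He.g, pow_succ, hi, mul_assoc]

/-- numeric relators -/
def relNums : List (List Nat) := [[0, 0], [1, 1], [2, 2], [3, 3], [4, 4], [5, 5], [6, 6], [0, 1, 0, 1, 0, 1, 0, 1], [1, 0, 1, 0, 1, 0, 1, 0], [0, 2, 0, 2], [2, 0, 2, 0], [0, 3, 0, 3], [3, 0, 3, 0], [0, 4, 0, 4], [4, 0, 4, 0], [0, 5, 0, 5], [5, 0, 5, 0], [0, 6, 0, 6], [6, 0, 6, 0], [1, 2, 1, 2, 1, 2], [2, 1, 2, 1, 2, 1], [1, 3, 1, 3], [3, 1, 3, 1], [1, 4, 1, 4], [4, 1, 4, 1], [1, 5, 1, 5], [5, 1, 5, 1], [1, 6, 1, 6], [6, 1, 6, 1], [2, 3, 2, 3, 2, 3, 2, 3, 2, 3, 2, 3, 2, 3, 2, 3, 2, 3, 2, 3], [3, 2, 3, 2, 3, 2, 3, 2, 3, 2, 3, 2, 3, 2, 3, 2, 3, 2, 3, 2], [2, 4, 2, 4], [4, 2, 4, 2], [2, 5, 2, 5], [5, 2, 5, 2],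 [2, 6, 2, 6], [6, 2, 6, 2], [3, 4, 3, 4, 3, 4], [4, 3, 4, 3, 4, 3], [3, 5, 3, 5, 3, 5], [5, 3, 5, 3, 5, 3], [3, 6, 3, 6, 3, 6], [6, 3, 6, 3, 6, 3], [4, 5, 4, 5], [5, 4, 5, 4], [4, 6, 4, 6], [6, 4, 6, 4], [5, 6, 5, 6, 5, 6, 5, 6], [6, 5, 6, 5, 6, 5, 6, 5], [4, 6, 5, 6, 5], [4, 2, 1, 0, 2, 1, 0, 2, 1, 0], [0, 3, 2, 3, 2, 3, 2, 3, 2, 3, 2], [2, 3, 5, 6, 2, 3, 5, 6, 2, 3, 5, 6, 2, 3, 5, 6]]

end CfsgLib.Spor.HeInvol
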