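import Cfsg.Agent.Lib.PresCert.CentralizerBound
import Cfsg.Agent.Lib.PresCert.Presented
import Cfsg.Agent.Lib.Spor.HeInvol.Words
import Cfsg.Agent.Lib.Spor.HeInvol.PermData

/-!
Further elements are the products they claim to be.
-/

namespace CfsgLib.Spor.HeInvol

open CfsgLib.PresCert Cfsg.Spor

theorem words1_ok : data.okWords (data.g + 8) ((data.words.drop 8).take 7) = true := by
  decide +kernel

end CfsgLib.Spor.HeInvol
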