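import Cfsg.Agent.Lib.PresCert.CentralizerBound
import Cfsg.Agent.Lib.PresCert.Presented
import Cfsg.Agent.Lib.Spor.HeInvol.Words
import Cfsg.Agent.Lib.Spor.HeInvol.PermData
import Cfsg.Agent.Lib.Spor.HeInvol.Words0Ok
import Cfsg.Agent.Lib.Spor.HeInvol.Words1Ok
import Cfsg.Agent.Lib.Spor.HeInvol.Words2Ok
import Cfsg.Agent.Lib.Spor.HeInvol.Words3Ok

/-!
The orbits along the base are correct.
-/

namespace CfsgLib.Spor.HeInvol

open CfsgLib.PresCert Cfsg.Spor

theorem okWords_append (D : PermData) : ∀ (a b : List (List ℕ)) (k : ℕ),
    D.okWords k (a ++ b) = (D.okWords k a && D.okWords (k + a.length) b)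
  | [], b, k => by simp [PermData.okWords]
  | w :: a, b, k => by
    simp only [List.cons_append, PermData.okWords, okWords_append D a b (k + 1), List.length_cons,
      Bool.and_assoc, show k + 1 + a.length = k + (a.length + 1) by omega]

theorem words_split : data.words = (data.words.drop 0).take 8 ++ ((data.words.drop 8).take 7 ++
    ((data.words.drop 15).take 7 ++ (data.words.drop 22).take 7)) := by decide +kernel

theorem words_ok : data.okWords data.g data.words = true := by
  rw [words_split, okWords_append, okWords_append, okWords_append,
    show ((data.words.drop 0).take 8).length = 8 by decide +kernel,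
    show ((data.words.drop 8).take 7).length = 7 by decide +kernel,
    show ((data.words.drop 15).take 7).length = 7 by decide +kernel]
  simp only [Bool.and_eq_true]
  exact ⟨words0_ok, words1_ok, words2_ok, words3_ok⟩

theorem levels_ok : data.okLevels [] levels = true := by decide +kernel

theorem levels_prod : (levels.map Level.len).prod = 4030387200 := by decide +kernel

theorem fixed_ok : data.okFixed 4 levels fixLists = true := by decide +kernel

theorem fixed_prod : (fixLists.map List.length).prod = 21504 := by decide +kernel

end CfsgLib.Spor.HeInvol
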