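import Cfsg.Agent.Lib.Spor.HeInvol.Checks
import Cfsg.Agent.Lib.Spor.HeInvol.Levels
import Cfsg.Agent.Lib.Spor.HeInvol.Equivariant
import Cfsg.Agent.Lib.Spor.HeInvol.SLData

/-!
An involution centraliser in the presented Held group is the centraliser of a transvection in
`SL₅(2)`, given that the presented group has order at most that of He.
-/

namespace CfsgLib.Spor.HeInvol

open CfsgLib.PresCert Cfsg.Spor Matrix

/-- a generator of the presented group -/
abbrev gen : He.Gen → Cfsg.Spor.He := pgen He.edges He.extra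

theorem gen_sq (x : He.Gen) : gen x * gen x = 1 := pgen_sq mem_nodes x

/-- the representation on 2058 points -/
noncomputable def π : Cfsg.Spor.He →* Equiv.Perm (Fin data.n) :=
  rep data idx invol_ok wordsFor relNums_ok rels_covered

theorem π_gen (x : He.Gen) : π (gen x) = data.genPerm invol_ok (idx x) :=
  rep_of invol_ok wordsFor relNums_ok rels_covered x

/-- the element of a numeric word -/
def el (w : List ℕ) : Cfsg.Spor.He := (w.map fun k => gen (letter k)).prod

theorem π_el {w : List ℕ} (hw : ∀ k ∈ w, k < 7) (p : Fin data.n) :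
    ((π (el w) p : Fin data.n) : Nat) = data.app w.reverse p := by
  rw [← PermData.prod_apply invol_ok w (fun k hk => hw k hk), el, map_list_prod, List.map_map]
  congr 3
  exact List.map_congr_left fun k hk => by
    rw [Function.comp_apply, π_gen, idx_letter k (hw k hk)]

/-- the bound assumed -/
def Bound : Prop := CardLE (⊤ : Subgroup Cfsg.Spor.He) 4030387200

theorem finite_of_bound (h : Bound) : Finite Cfsg.Spor.He := by
  have h' := h.1
  rw [Subgroup.card_top] at h'
  exact Nat.finite_of_card_ne_zero h'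

theorem grp_le_range : PermData.grp (PermData.interp (D := data) invol_ok) ≤ π.range := by
  rw [PermData.grp, Subgroup.closure_le]
  rintro _ ⟨k, hk, rfl⟩
  exact ⟨gen (letter k), by rw [π_gen, idx_letter k hk]; rfl⟩

theorem range_le_grp : π.range ≤ PermData.grp (PermData.interp (D := data) invol_ok) := by
  rw [MonoidHom.range_eq_map, ← PresentedGroup.closure_range_of, MonoidHom.map_closure,
    Subgroup.closure_le]
  rintro _ ⟨_, ⟨x, rfl⟩, rfl⟩
  exact Subgroup.subset_closure ⟨idx x, by cases x <;> decide, (π_gen x).symm⟩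

theorem π_injective (h : Bound) : Function.Injective π := by
  haveI := finite_of_bound h
  have h1 : 4030387200 ≤ Nat.card π.range :=
    levels_prod ▸ (PermData.le_card (PermData.interp invol_ok) words_ok levels levels_ok).trans
      (Nat.le_of_dvd Nat.card_pos (Subgroup.card_dvd_of_le grp_le_range))
  have h2 := h.2
  rw [Subgroup.card_top] at h2
  have h3 : Function.Bijective π.rangeRestrict :=
    (Nat.bijective_iff_surjective_and_card _).2 ⟨π.rangeRestrict_surjective,
      le_antisymm (h2.trans h1) (Nat.card_le_card_of_surjective _ π.rangeRestrict_surjective)⟩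
  exact fun a b e => h3.1 (Subtype.ext e)

/-- the involution -/
def z : Cfsg.Spor.He := gen .e

theorem card_centralizer_le (h : Bound) :
    Nat.card (Subgroup.centralizer ({z} : Set Cfsg.Spor.He)) ≤ 21504 := by
  haveI := finite_of_bound h
  rw [← fixed_prod]
  refine PermData.centralizer_le_of_hom _ π (π_injective h) range_le_grp words_ok levels levels_ok
    ?_ 4 z (fun i => ?_) fixLists fixed_ok
  · rw [levels_prod]
    refine (Nat.le_of_dvd Nat.card_pos (Subgroup.card_dvd_of_le grp_le_range)).trans ?_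
    refine (Nat.card_le_card_of_surjective _ π.rangeRestrict_surjective).trans ?_
    have := h.2
    rwa [Subgroup.card_top] at this
  · rw [z, π_gen]
    exact PermData.genPerm_img invol_ok (by decide) i

theorem orderOf_z (h : Bound) : orderOf z = 2 := by
  haveI : Fact (Nat.Prime 2) := ⟨Nat.prime_two⟩
  refine orderOf_eq_prime (by rw [sq]; exact gen_sq _) fun e => ?_
  have h1 := congrArg π e
  rw [z, π_gen, map_one] at h1
  have h2 := congrArg (fun σ : Equiv.Perm (Fin data.n) => ((σ ⟨5, by decide⟩ : Fin data.n) : Nat)) h1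
  simp only [PermData.genPerm_img invol_ok (show idx He.Gen.e < data.g by decide)] at h2
  exact absurd h2 (by decide +kernel)

theorem moved : data.img 4 5 ≠ 5 := by decide +kernel

/-- vectors by number -/
def vec (v : Nat) : Fin 5 → ZMod 2 := fun i => if v.testBit i then 1 else 0

theorem vec_bijective : Function.Bijective fun v : Fin 32 => vec v :=
  (Fintype.bijective_iff_injective_and_card _).2 ⟨by decide +kernel, by simp⟩

/-- vectors numbered -/
noncomputable def vecEquiv : Fin 32 ≃ (Fin 5 → ZMod 2) := Equiv.ofBijective _ vec_bijective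

/-- a matrix given by rows -/
def rowsMat (r : List Nat) : Matrix (Fin 5) (Fin 5) (ZMod 2) :=
  Matrix.of fun i => vec (r.getD i 0)

theorem det_genRows : ∀ i : Fin 4, (rowsMat (genRows.getD i [])).det = 1 := by decide +kernel

/-- the images of the four generators -/
def yGen (i : Fin 4) : Matrix.SpecialLinearGroup (Fin 5) (ZMod 2) := ⟨_, det_genRows i⟩

theorem yGen_comm : ∀ i : Fin 4,
    (yGen i).1 * Matrix.transvection 0 1 1 = Matrix.transvection 0 1 1 * (yGen i).1 := by
  decide +kernel

theorem yGen_vec : ∀ i : Fin 4, ∀ v : Fin 32, (yGen i).1 *ᵥ vec v = vec ((vecTab.getD i []).getD v 32) ∧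
    (vecTab.getD i []).getD v 32 < 32 := by decide +kernel

theorem slImg : ∀ i : Fin 4, ∀ v : Fin 32, slData.img i v = (vecTab.getD i []).getD v 32 := by
  decide +kernel

/-- the action of `SL₅(2)` on the vectors -/
noncomputable def π' : Matrix.SpecialLinearGroup (Fin 5) (ZMod 2) →* Equiv.Perm (Fin slData.n) where
  toFun A := vecEquiv.symm.permCongr
    { toFun := fun v => A.1 *ᵥ v
      invFun := fun v => (A⁻¹).1 *ᵥ v
      left_inv := fun v => by
        show (A⁻¹).1 *ᵥ (A.1 *ᵥ v) = v
        rw [mulVec_mulVec, ← Matrix.SpecialLinearGroup.coe_mul, inv_mul_cancel,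
          Matrix.SpecialLinearGroup.coe_one, one_mulVec]
      right_inv := fun v => by
        show A.1 *ᵥ ((A⁻¹).1 *ᵥ v) = v
        rw [mulVec_mulVec, ← Matrix.SpecialLinearGroup.coe_mul, mul_inv_cancel,
          Matrix.SpecialLinearGroup.coe_one, one_mulVec] }
  map_one' := Equiv.ext fun v => by
    show vecEquiv.symm ((1 : Matrix.SpecialLinearGroup (Fin 5) (ZMod 2)).1 *ᵥ vecEquiv v) = v
    rw [Matrix.SpecialLinearGroup.coe_one, one_mulVec, Equiv.symm_apply_apply]
  map_mul' A B := Equiv.ext fun v => by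
    show vecEquiv.symm ((A * B).1 *ᵥ vecEquiv v) =
      vecEquiv.symm (A.1 *ᵥ vecEquiv (vecEquiv.symm (B.1 *ᵥ vecEquiv v)))
    rw [Equiv.apply_symm_apply, mulVec_mulVec, Matrix.SpecialLinearGroup.coe_mul]

theorem genWords_lt : ∀ i : Fin 4, ∀ k ∈ genWords.getD i [], k < 7 := by decide

/-- the four generators of the centraliser -/
def xGen (i : Fin 4) : Cfsg.Spor.He := el (genWords.getD i [])

theorem commWords : ∀ i : Fin 4,
    data.okId (genWords.getD i [] ++ 4 :: ((genWords.getD i []).reverse ++ [4])).reverse = true := by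
  decide +kernel

theorem xGen_mem (h : Bound) (i : Fin 4) :
    xGen i ∈ Subgroup.centralizer ({z} : Set Cfsg.Spor.He) := by
  set w := genWords.getD i [] with hw
  have hlt : ∀ k ∈ w ++ 4 :: (w.reverse ++ [4]), k < 7 := by
    intro k hk
    simp only [List.mem_append, List.mem_cons, List.mem_reverse, List.not_mem_nil, or_false] at hk
    rcases hk with hk | hk | hk | hk
    · exact genWords_lt i k hk
    · omega
    · exact genWords_lt i k hk
    · omega
  have h1 : el (w ++ 4 :: (w.reverse ++ [4])) = 1 := by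
    refine π_injective h (Equiv.ext fun p => Fin.ext ?_)
    rw [π_el hlt, map_one, Equiv.Perm.one_apply]
    exact Nat.eq_of_beq_eq_true (allBelow_spec (commWords i) p p.2)
  have h2 : el (w ++ 4 :: (w.reverse ++ [4])) = xGen i * z * (xGen i)⁻¹ * z := by
    simp only [el, List.map_append, List.prod_append, List.map_cons, List.prod_cons, List.map_nil,
      List.prod_nil, mul_one, mul_assoc]
    rw [prod_reverse_of_invol (fun k => gen (letter k)) (fun k => gen_sq _)]
    rfl
  rw [h1] at h2
  refine Subgroup.mem_centralizer_singleton_iff.2 ?_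
  have h3 : xGen i * z * (xGen i)⁻¹ = z :=
    (eq_inv_of_mul_eq_one_left h2.symm).trans (inv_eq_of_mul_eq_one_left (gen_sq _))
  exact mul_inv_eq_iff_eq_mul.1 h3

/-- pairs are moved like their vectors -/
def Compat (p : Cfsg.Spor.He × Matrix.SpecialLinearGroup (Fin 5) (ZMod 2)) : Prop :=
  ∀ k < 5376, ∃ l < 5376, (∀ a : Fin data.n, (a : Nat) = pX k → ((π p.1 a : Fin data.n) : Nat) = pX l) ∧
    (∀ a : Fin data.n, (a : Nat) = pY k → ((π p.1 a : Fin data.n) : Nat) = pY l) ∧
    p.2.1 *ᵥ vec (pV k) = vec (pV l)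

theorem compat_one : Compat 1 := fun k hk =>
  ⟨k, hk, fun a ha => by simpa using ha, fun a ha => by simpa using ha, by
    show (1 : Matrix.SpecialLinearGroup (Fin 5) (ZMod 2)).1 *ᵥ _ = _
    rw [Matrix.SpecialLinearGroup.coe_one, one_mulVec]⟩

theorem compat_mul {p r} (hp : Compat p) (hr : Compat r) : Compat (p * r) := by
  intro k hk
  obtain ⟨l, hl, r1, r2, r3⟩ := hr k hk
  obtain ⟨m, hm, p1, p2, p3⟩ := hp l hl
  refine ⟨m, hm, fun a ha => ?_, fun a ha => ?_, ?_⟩
  · rw [Prod.fst_mul, map_mul, Equiv.Perm.mul_apply]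
    exact p1 _ (r1 a ha)
  · rw [Prod.fst_mul, map_mul, Equiv.Perm.mul_apply]
    exact p2 _ (r2 a ha)
  · rw [Prod.snd_mul, Matrix.SpecialLinearGroup.coe_mul, ← mulVec_mulVec, r3, p3]

theorem compat_pow {p} (hp : Compat p) : ∀ n : ℕ, Compat (p ^ n)
  | 0 => by rw [pow_zero]; exact compat_one
  | n + 1 => by rw [pow_succ]; exact compat_mul (compat_pow hp n) hp

/-- the joint group -/
def joint : Subgroup (Cfsg.Spor.He × Matrix.SpecialLinearGroup (Fin 5) (ZMod 2)) :=
  Subgroup.closure (Set.range fun i => (xGen i, yGen i))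

theorem compat_joint (h : Bound) : ∀ p ∈ joint, Compat p := by
  haveI := finite_of_bound h
  intro p hp
  induction hp using Subgroup.closure_induction with
  | mem p hp =>
    obtain ⟨i, rfl⟩ := hp
    intro k hk
    obtain ⟨-, -, hv, hgen⟩ := pair_spec hk
    obtain ⟨l, hl, e1, e2, e3⟩ := hgen i i.2
    refine ⟨l, hl, fun a ha => ?_, fun a ha => ?_, ?_⟩
    · show ((π (el _) a : Fin data.n) : Nat) = _
      rw [π_el (genWords_lt i), ha, e1]
    · show ((π (el _) a : Fin data.n) : Nat) = _
      rw [π_el (genWords_lt i), ha, e2]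
    · rw [← e3]
      exact (yGen_vec i ⟨pV k, hv⟩).1
  | one => exact compat_one
  | mul a b ha hb iha ihb => exact compat_mul iha ihb
  | inv a ha iha =>
    have : a⁻¹ = a ^ (orderOf a - 1) := by
      rw [inv_eq_iff_mul_eq_one, ← pow_succ', Nat.sub_add_cancel (orderOf_pos a), pow_orderOf_eq_one]
    rw [this]
    exact compat_pow iha _

theorem basis_pairs : ∀ j : Fin 5, basisPairs.getD j 0 < 5376 := by decide +kernel

/-- the matrix with the vectors of the chosen pairs as columns -/
noncomputable def colMat : Matrix (Fin 5) (Fin 5) (ZMod 2) :=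
  Matrix.of fun i j => vec (pV (basisPairs.getD j 0)) i

theorem colMat_unit : IsUnit colMat.det := by
  have h : colMat.det ≠ 0 := by decide +kernel
  exact isUnit_iff_ne_zero.2 h

theorem fst_injective (h : Bound) :
    Function.Injective fun p : joint => (p : Cfsg.Spor.He × Matrix.SpecialLinearGroup (Fin 5) (ZMod 2)).1 := by
  suffices key : ∀ p ∈ joint, p.1 = 1 → p = 1 by
    intro a b hab
    have := key _ (a * b⁻¹).2 (by
      show (a : Cfsg.Spor.He × Matrix.SpecialLinearGroup (Fin 5) (ZMod 2)).1 * ((b : Cfsg.Spor.He × Matrix.SpecialLinearGroup (Fin 5) (ZMod 2)).1)⁻¹ = 1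
      rw [show (a : Cfsg.Spor.He × Matrix.SpecialLinearGroup (Fin 5) (ZMod 2)).1 = (b : Cfsg.Spor.He × Matrix.SpecialLinearGroup (Fin 5) (ZMod 2)).1 from hab, mul_inv_cancel])
    exact mul_inv_eq_one.1 (Subtype.ext this)
  intro p hp h1
  refine Prod.ext h1 ?_
  have hA : p.2.1 * colMat = colMat := by
    ext i j
    obtain ⟨l, hl, e1, e2, e3⟩ := compat_joint h p hp _ (basis_pairs j)
    obtain ⟨hx, hy, -, -⟩ := pair_spec (basis_pairs j)
    have f1 := e1 ⟨_, hx⟩ rfl
    have f2 := e2 ⟨_, hy⟩ rfl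
    rw [h1, map_one, Equiv.Perm.one_apply] at f1 f2
    rw [← pair_inj (basis_pairs j) hl f1 f2] at e3
    exact congrFun e3 i
  refine Subtype.ext ?_
  rw [show (p.2 : Matrix (Fin 5) (Fin 5) (ZMod 2)) = p.2.1 * colMat * colMat⁻¹ from
    (Matrix.mul_nonsing_inv_cancel_right _ _ colMat_unit).symm, hA,
    Matrix.mul_nonsing_inv _ colMat_unit]
  rfl

theorem sl_words_ok : slData.okWords slData.g slData.words = true := by decide +kernel

theorem sl_levels_ok : slData.okLevels [] slLevels = true := by decide +kernel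

theorem sl_levels_prod : (slLevels.map Level.len).prod = 21504 := by decide +kernel

theorem le_card_snd :
    21504 ≤ Nat.card (joint.map (MonoidHom.snd Cfsg.Spor.He _)) := by
  rw [← sl_levels_prod]
  refine PermData.le_card_of_hom _ π' (fun k hk => ?_) sl_words_ok slLevels sl_levels_ok
  have hk' : k < 4 := hk
  refine ⟨yGen ⟨k, hk'⟩, ⟨(xGen ⟨k, hk'⟩, yGen ⟨k, hk'⟩), Subgroup.subset_closure ⟨_, rfl⟩, rfl⟩,
    fun v => ?_⟩
  obtain ⟨h1, h2⟩ := yGen_vec ⟨k, hk'⟩ v
  rw [slImg ⟨k, hk'⟩ v]
  show ((vecEquiv.symm ((yGen ⟨k, hk'⟩).1 *ᵥ vecEquiv v) : Fin 32) : Nat) = _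
  rw [show vecEquiv v = vec (v : Fin 32) from rfl, h1,
    show vec ((vecTab.getD k []).getD v 32) = vecEquiv ⟨_, h2⟩ from rfl, Equiv.symm_apply_apply]

theorem card_GL_three : Nat.card (Matrix.GeneralLinearGroup (Fin 3) (ZMod 2)) = 168 := by
  rw [Matrix.card_GL_field]
  simp [Fin.prod_univ_three]

theorem card_transvection_centralizer_le (s : Matrix.SpecialLinearGroup (Fin 5) (ZMod 2))
    (hs : s.1 = Matrix.transvection 0 1 1) :
    Nat.card (Subgroup.centralizer ({s} : Set (Matrix.SpecialLinearGroup (Fin 5) (ZMod 2)))) ≤ 21504 := by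
  set C := Subgroup.centralizer ({s} : Set (Matrix.SpecialLinearGroup (Fin 5) (ZMod 2))) with hC
  have hent : ∀ g : C, (∀ l : Fin 5, l ≠ 0 → g.1.1 l 0 = 0) ∧ (∀ l : Fin 5, l ≠ 1 → g.1.1 1 l = 0) := by
    intro g
    have e : g.1.1 * Matrix.transvection 0 1 1 = Matrix.transvection 0 1 1 * g.1.1 := by
      rw [← hs, ← Matrix.SpecialLinearGroup.coe_mul, Subgroup.mem_centralizer_singleton_iff.1 g.2,
        Matrix.SpecialLinearGroup.coe_mul]
    refine ⟨fun l hl => ?_, fun l hl => ?_⟩
    · have := congrFun (congrFun e l) 1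
      rw [mul_transvection_apply_same, transvection_mul_apply_of_ne _ _ _ _ hl, one_mul] at this
      simpa using this
    · have := congrFun (congrFun e 0) l
      rw [mul_transvection_apply_of_ne _ _ _ _ hl, transvection_mul_apply_same, one_mul] at this
      simpa using this
  have h01 : ∀ g : C, g.1.1 0 0 = g.1.1 1 1 := fun g => by
    have e : g.1.1 * Matrix.transvection 0 1 1 = Matrix.transvection 0 1 1 * g.1.1 := by
      rw [← hs, ← Matrix.SpecialLinearGroup.coe_mul, Subgroup.mem_centralizer_singleton_iff.1 g.2,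
        Matrix.SpecialLinearGroup.coe_mul]
    have := congrFun (congrFun e 0) 1
    rw [mul_transvection_apply_same, transvection_mul_apply_same, one_mul, one_mul, add_comm] at this
    exact add_right_cancel (this.trans (add_comm _ _))
  have h11 : ∀ g : C, g.1.1 1 1 = 1 := fun g => by
    have hne : g.1.1 1 1 ≠ 0 := fun h0 => by
      have hrow : ∀ l, g.1.1 1 l = 0 := fun l => by
        by_cases hl : l = 1
        · rw [hl, h0]
        · exact (hent g).2 l hl
      have := g.1.2
      rw [Matrix.det_eq_zero_of_row_eq_zero 1 hrow] at this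
      exact zero_ne_one this
    exact (show ∀ a : ZMod 2, a ≠ 0 → a = 1 by decide) _ hne
  let sub : Fin 3 → Fin 5 := fun i => ⟨i + 2, by omega⟩
  let B : C → Matrix (Fin 3) (Fin 3) (ZMod 2) := fun g => Matrix.of fun i j => g.1.1 (sub i) (sub j)
  have hB : ∀ g h : C, B (g * h) = B g * B h := fun g h => by
    ext i j
    show ((g.1 * h.1 : Matrix.SpecialLinearGroup (Fin 5) (ZMod 2))).1 (sub i) (sub j) = _
    rw [Matrix.SpecialLinearGroup.coe_mul, Matrix.mul_apply, Matrix.mul_apply, Fin.sum_univ_five,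
      Fin.sum_univ_three, (hent g).1 _ (show sub i ≠ 0 from Fin.ne_of_val_ne (by simp [sub])),
      (hent h).2 _ (show sub j ≠ 1 from Fin.ne_of_val_ne (by simp [sub]))]
    simp [B, sub]
  have hB1 : B 1 = 1 := by
    ext i j
    show (1 : Matrix.SpecialLinearGroup (Fin 5) (ZMod 2)).1 (sub i) (sub j) = _
    rw [Matrix.SpecialLinearGroup.coe_one, Matrix.one_apply, Matrix.one_apply]
    simp [sub, Fin.ext_iff]
  let Bu : C → Matrix.GeneralLinearGroup (Fin 3) (ZMod 2) := fun g =>
    ⟨B g, B g⁻¹, by rw [← hB, mul_inv_cancel, hB1], by rw [← hB, inv_mul_cancel, hB1]⟩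
  let ψ : C → (Fin 4 → ZMod 2) × (Fin 3 → ZMod 2) × Matrix.GeneralLinearGroup (Fin 3) (ZMod 2) :=
    fun g => (fun j => g.1.1 0 j.succ, fun i => g.1.1 (sub i) 1, Bu g)
  have hψ : Function.Injective ψ := by
    intro g g' e
    have e1 : ∀ j : Fin 4, g.1.1 0 j.succ = g'.1.1 0 j.succ := congrFun (congrArg Prod.fst e)
    have e2 : ∀ i : Fin 3, g.1.1 (sub i) 1 = g'.1.1 (sub i) 1 :=
      congrFun (congrArg (fun p => p.2.1) e)
    have e3 : ∀ i j : Fin 3, g.1.1 (sub i) (sub j) = g'.1.1 (sub i) (sub j) := fun i j =>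
      congrFun (congrFun (congrArg (fun p => (p.2.2 : Matrix (Fin 3) (Fin 3) (ZMod 2))) e) i) j
    refine Subtype.ext (Subtype.ext (Matrix.ext fun i j => ?_))
    by_cases hj : j = 0
    · subst hj
      by_cases hi : i = 0
      · subst hi; rw [h01, h01, h11, h11]
      · rw [(hent g).1 i hi, (hent g').1 i hi]
    obtain ⟨j', rfl⟩ := Fin.exists_succ_eq.2 hj
    by_cases hi : i = 0
    · subst hi; exact e1 j'
    by_cases hi1 : i = 1
    · subst hi1
      by_cases hj1 : j'.succ = 1
      · rw [hj1, h11, h11]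
      · rw [(hent g).2 _ hj1, (hent g').2 _ hj1]
    obtain ⟨i', rfl⟩ : ∃ i' : Fin 3, sub i' = i := ⟨⟨i.val - 2, by omega⟩, Fin.ext (by
      have h0 : i.val ≠ 0 := fun h => hi (Fin.ext h)
      have h1 : i.val ≠ 1 := fun h => hi1 (Fin.ext h)
      show i.val - 2 + 2 = i.val
      omega)⟩
    by_cases hj1 : j'.succ = 1
    · rw [hj1]; exact e2 i'
    obtain ⟨j'', hj''⟩ : ∃ j'' : Fin 3, sub j'' = j'.succ := ⟨⟨j'.val - 1, by omega⟩, Fin.ext (by
      have h1 : j'.val ≠ 0 := fun h => hj1 (Fin.ext (by simp [h]))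
      show j'.val - 1 + 2 = j'.succ.val
      rw [Fin.val_succ]
      omega)⟩
    rw [← hj'']
    exact e3 i' j''
  refine (Nat.card_le_card_of_injective ψ hψ).trans ?_
  rw [Nat.card_prod, Nat.card_prod, card_GL_three, Nat.card_fun, Nat.card_fun]
  simp

/-- The main result. -/
theorem centralizer_equiv (h : Bound) (s : Matrix.SpecialLinearGroup (Fin 5) (ZMod 2))
    (hs : s.1 = Matrix.transvection 0 1 1) :
    ∃ x : Cfsg.Spor.He, orderOf x = 2 ∧ Nonempty (↥(Subgroup.centralizer ({x} : Set Cfsg.Spor.He)) ≃*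
      ↥(Subgroup.centralizer ({s} : Set (Matrix.SpecialLinearGroup (Fin 5) (ZMod 2))))) := by
  haveI := finite_of_bound h
  refine ⟨z, orderOf_z h, ?_⟩
  have hmem : ∀ p : joint, (p : Cfsg.Spor.He × Matrix.SpecialLinearGroup (Fin 5) (ZMod 2)).1 ∈ Subgroup.centralizer ({z} : Set Cfsg.Spor.He) ∧
      (p : Cfsg.Spor.He × Matrix.SpecialLinearGroup (Fin 5) (ZMod 2)).2 ∈
        Subgroup.centralizer ({s} : Set (Matrix.SpecialLinearGroup (Fin 5) (ZMod 2))) := by
    intro p
    have hle : joint ≤ (Subgroup.centralizer ({z} : Set Cfsg.Spor.He)).prod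
        (Subgroup.centralizer ({s} : Set (Matrix.SpecialLinearGroup (Fin 5) (ZMod 2)))) := by
      rw [joint, Subgroup.closure_le]
      rintro _ ⟨i, rfl⟩
      refine ⟨xGen_mem h i, Subgroup.mem_centralizer_singleton_iff.2 (Subtype.ext ?_)⟩
      rw [Matrix.SpecialLinearGroup.coe_mul, Matrix.SpecialLinearGroup.coe_mul, hs]
      exact yGen_comm i
    exact hle p.2
  let φ₁ : joint →* Subgroup.centralizer ({z} : Set Cfsg.Spor.He) :=
    ((MonoidHom.fst _ _).comp joint.subtype).codRestrict _ fun p => (hmem p).1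
  let φ₂ : joint →* Subgroup.centralizer ({s} : Set (Matrix.SpecialLinearGroup (Fin 5) (ZMod 2))) :=
    ((MonoidHom.snd _ _).comp joint.subtype).codRestrict _ fun p => (hmem p).2
  have i1 : Function.Injective φ₁ := fun a b e => fst_injective h (congrArg Subtype.val e)
  have c1 := Nat.card_le_card_of_injective φ₁ i1
  have c2 := card_centralizer_le h
  have c3 := card_transvection_centralizer_le s hs
  have c4 : Nat.card (joint.map (MonoidHom.snd Cfsg.Spor.He _)) ≤ Nat.card φ₂.range := by
    refine Nat.card_le_card_of_injective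
      (fun y => ⟨⟨y.1, ?_⟩, ?_⟩) fun a b e => Subtype.ext (congrArg (fun y => y.1.1) e :)
    · obtain ⟨p, hp, he⟩ := y.2
      exact he ▸ (hmem ⟨p, hp⟩).2
    · obtain ⟨p, hp, he⟩ := y.2
      exact ⟨⟨p, hp⟩, Subtype.ext he⟩
  have c5 := Nat.card_le_card_of_surjective _ φ₂.rangeRestrict_surjective
  have c6 := Subgroup.card_le_card_group φ₂.range
  have c7 := le_card_snd
  have b1 : Function.Bijective φ₁ :=
    (Nat.bijective_iff_injective_and_card _).2 ⟨i1, by omega⟩
  have b2 : Function.Bijective φ₂ := by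
    have hsur : φ₂.range = ⊤ := Subgroup.eq_top_of_card_eq _ (by omega)
    exact (Nat.bijective_iff_surjective_and_card _).2
      ⟨MonoidHom.range_eq_top.1 hsur, by omega⟩
  exact ⟨(MulEquiv.ofBijective φ₁ b1).symm.trans (MulEquiv.ofBijective φ₂ b2)⟩

end CfsgLib.Spor.HeInvol
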