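import Cfsg.Agent.Lib.PresCert.CentralizerBound
import Cfsg.Agent.Lib.PresCert.Presented
import Cfsg.Agent.Lib.Spor.HeInvol.Words
import Cfsg.Agent.Lib.Spor.HeInvol.PermData
import Cfsg.Agent.Lib.Spor.HeInvol.Rels0Ok
import Cfsg.Agent.Lib.Spor.HeInvol.Rels1Ok
import Cfsg.Agent.Lib.Spor.HeInvol.Rels2Ok
import Cfsg.Agent.Lib.Spor.HeInvol.Rels3Ok

/-!
The tables satisfy the relators and the orbits are correct.
-/

namespace CfsgLib.Spor.HeInvol

open CfsgLib.PresCert Cfsg.Spor

theorem invol_ok : data.okInvol = true := by decide +kernel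

theorem relNums_split : relNums = (relNums.drop 0).take 14 ++ ((relNums.drop 14).take 13 ++
    ((relNums.drop 27).take 13 ++ (relNums.drop 40).take 13)) := by decide +kernel

theorem relNums_ok : data.okNums relNums = true := by
  rw [PermData.okNums, relNums_split, List.all_append, List.all_append, List.all_append]
  simp only [Bool.and_eq_true]
  exact ⟨relNums0_ok, relNums1_ok, relNums2_ok, relNums3_ok⟩

theorem rels_covered : PermData.okCovered idx relNums (knownWords He.edges extraW) = true := by
  decide +kernel

end CfsgLib.Spor.HeInvol
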